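import Groth.Agent.EGA43.QcohFP

/-! Sections of pullbacks of quasi-coherent modules on affine opens. -/

universe u

set_option autoImplicit false
set_option backward.isDefEq.respectTransparency false

open CategoryTheory Limits AlgebraicGeometry Opposite TopologicalSpace
open Groth.Agent.Coherent

namespace Groth.Agent.Flatn12

/-- Global sections of a pushforward along `Spec φ`. -/
noncomputable def pushforwardΓIso {R S : CommRingCat.{u}} (φ : R ⟶ S) :
    Scheme.Modules.pushforward (Spec.map φ) ⋙ moduleSpecΓFunctor ≅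
      moduleSpecΓFunctor ⋙ ModuleCat.restrictScalars φ.hom :=
  Functor.isoWhiskerRight (pushforwardCompModulesSpecToSheafIso φ)
    (TopCat.Sheaf.forget _ _ ⋙ (CategoryTheory.evaluation _ _).obj (op ⊤))

/-- Pullback of `~` along `Spec φ`. -/
noncomputable def tildePullbackIso {R S : CommRingCat.{u}} (φ : R ⟶ S) :
    tilde.functor R ⋙ Scheme.Modules.pullback (Spec.map φ) ≅
      ModuleCat.extendScalars φ.hom ⋙ tilde.functor S :=
  ((tilde.adjunction.comp (Scheme.Modules.pullbackPushforwardAdjunction (Spec.map φ))).ofNatIsoRight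
    (pushforwardΓIso φ)).leftAdjointUniq
      ((ModuleCat.extendRestrictScalarsAdj φ.hom).comp tilde.adjunction)

theorem isQCoh_restrict_fromSpec' {X : Scheme.{u}} (M : X.Modules) [Coh.IsQCoh M] {U : X.Opens}
    (hU : IsAffineOpen U) : IsIso (M.restrict hU.fromSpec).fromTildeΓ := by
  have : Coh.IsQCoh (M.restrict hU.fromSpec) :=
    isQCoh_restrict_fromSpec hU M (localizesOn_of_isQCoh M hU)
  infer_instance

variable {X X' : Scheme.{u}} (f : X' ⟶ X) (M : X.Modules) [Coh.IsQCoh M]

/-- The module of sections over an affine open, through `fromSpec`. -/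
noncomputable def secEquiv {U : X.Opens} (hU : IsAffineOpen U) (N : X.Modules) :
    ↑(moduleSpecΓFunctor.obj (N.restrict hU.fromSpec)) ≃ₗ[Γ(X, U)] Γ(N, U) where
  toFun s := (fromSpecIso hU N ⊤ U (fromSpec_image_top hU)).hom s
  invFun s := (fromSpecIso hU N ⊤ U (fromSpec_image_top hU)).inv s
  left_inv s := Iso.hom_inv_id_apply (fromSpecIso hU N ⊤ U (fromSpec_image_top hU)) s
  right_inv s := Iso.inv_hom_id_apply (fromSpecIso hU N ⊤ U (fromSpec_image_top hU)) s
  map_add' s t := map_add (fromSpecIso hU N ⊤ U (fromSpec_image_top hU)).hom.hom s t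
  map_smul' r s := by
    refine (fromSpecIso_smul hU N r ⊤ U (fromSpec_image_top hU) le_rfl s).trans ?_
    rw [show X.presheaf.map (homOfLE (le_refl U)).op r = r by simp]
    rfl

theorem nonempty_pullback_sections_equiv {U : X.Opens} (hU : IsAffineOpen U) {U' : X'.Opens}
    (hU' : IsAffineOpen U') (e : U' ≤ f ⁻¹ᵁ U) :
    letI := (f.appLE U U' e).hom.toAlgebra
    Nonempty (TensorProduct Γ(X, U) Γ(X', U') Γ(M, U) ≃ₗ[Γ(X', U')]
      Γ((Scheme.Modules.pullback f).obj M, U')) := by
  let _ := (f.appLE U U' e).hom.toAlgebra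
  let P := (Scheme.Modules.pullback f).obj M
  let φ := f.appLE U U' e
  have := isQCoh_restrict_fromSpec' M hU
  let N := moduleSpecΓFunctor.obj (M.restrict hU.fromSpec)
  have hc : hU'.fromSpec ≫ f = Spec.map φ ≫ hU.fromSpec := (hU.SpecMap_appLE_fromSpec f hU' e).symm
  let i : P.restrict hU'.fromSpec ≅ (ModuleCat.extendScalars φ.hom ⋙ tilde.functor _).obj N :=
    (Scheme.Modules.restrictFunctorIsoPullback hU'.fromSpec).app P ≪≫
      (Scheme.Modules.pullbackComp hU'.fromSpec f).app M ≪≫
      (Scheme.Modules.pullbackCongr hc).app M ≪≫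
      ((Scheme.Modules.pullbackComp (Spec.map φ) hU.fromSpec).app M).symm ≪≫
      (Scheme.Modules.pullback (Spec.map φ)).mapIso
        ((Scheme.Modules.restrictFunctorIsoPullback hU.fromSpec).app M).symm ≪≫
      (Scheme.Modules.pullback (Spec.map φ)).mapIso (asIso (M.restrict hU.fromSpec).fromTildeΓ).symm ≪≫
      (tildePullbackIso φ).app N
  let j : moduleSpecΓFunctor.obj (P.restrict hU'.fromSpec) ≅ (ModuleCat.extendScalars φ.hom).obj N :=
    moduleSpecΓFunctor.mapIso i ≪≫ (tilde.toTildeΓNatIso.app _).symm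
  let E : TensorProduct Γ(X, U) Γ(X', U') Γ(M, U) ≃ₗ[Γ(X', U')] Γ(P, U') :=
    (LinearEquiv.baseChange Γ(X, U) Γ(X', U') _ _ (secEquiv hU M).symm).trans
      (j.toLinearEquiv.symm.trans (secEquiv hU' P))
  exact ⟨E⟩

end Groth.Agent.Flatn12
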