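import Groth.Agent.Flatn12.RelFPLocal
import Groth.Agent.Flatn12.PullbackSections
import Groth.Agent.Coherent.FinitePres
import Groth.Agent.Coherent.QcohOps
import Mathlib.AlgebraicGeometry.Morphisms.Finite
import Mathlib.AlgebraicGeometry.Morphisms.Flat

/-! Relative finite presentation on schemes. -/

universe u

set_option autoImplicit false
set_option backward.isDefEq.respectTransparency false

open CategoryTheory Limits AlgebraicGeometry Opposite TopologicalSpace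
open Groth.Agent.Coherent

namespace Groth.Agent.Flatn12

variable {X S : Scheme.{u}} (f : X ⟶ S) (F : X.Modules)

theorem appLE_finiteType [LocallyOfFiniteType f] {U : X.Opens} (hU : IsAffineOpen U) {V : S.Opens}
    (hV : IsAffineOpen V) (h : U ≤ f ⁻¹ᵁ V) : (f.appLE V U h).hom.FiniteType :=
  HasRingHomProperty.appLE @LocallyOfFiniteType f inferInstance ⟨V, hV⟩ ⟨U, hU⟩ h

theorem appLE_fp [LocallyOfFinitePresentation f] {U : X.Opens} (hU : IsAffineOpen U) {V : S.Opens}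
    (hV : IsAffineOpen V) (h : U ≤ f ⁻¹ᵁ V) : (f.appLE V U h).hom.FinitePresentation :=
  HasRingHomProperty.appLE @LocallyOfFinitePresentation f inferInstance ⟨V, hV⟩ ⟨U, hU⟩ h

theorem res_fp {U U' : X.affineOpens} (h : (U' : X.Opens) ≤ U) :
    (X.presheaf.map (homOfLE h).op).hom.FinitePresentation := by
  have := appLE_fp (𝟙 X) U'.2 U.2 (h : (U' : X.Opens) ≤ (𝟙 X) ⁻¹ᵁ (U : X.Opens))
  simpa [Scheme.Hom.appLE] using this

theorem relFPOn_change_base (U : X.affineOpens) {V V' : S.affineOpens}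
    (h : (U : X.Opens) ≤ f ⁻¹ᵁ (V : S.Opens)) (h' : (U : X.Opens) ≤ f ⁻¹ᵁ (V' : S.Opens))
    (hV : (V' : S.Opens) ≤ V) : Flatn.RelFPOn f F U V h ↔ Flatn.RelFPOn f F U V' h' := by
  let _ := (f.appLE (V : S.Opens) (U : X.Opens) h).hom.toAlgebra
  let _ := (f.appLE (V' : S.Opens) (U : X.Opens) h').hom.toAlgebra
  let _ := (S.presheaf.map (homOfLE hV).op).hom.toAlgebra
  have : IsScalarTower Γ(S, (V : S.Opens)) Γ(S, (V' : S.Opens)) Γ(X, (U : X.Opens)) :=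
    .of_algebraMap_eq fun r => by
      show f.appLE (V : S.Opens) (U : X.Opens) h r = _
      rw [← Scheme.Hom.map_appLE f h' (homOfLE hV).op]
      rfl
  have hfp : Algebra.FinitePresentation Γ(S, (V : S.Opens)) Γ(S, (V' : S.Opens)) := res_fp hV
  exact ⟨fun H => RelFP.of_tower H, fun H => RelFP.trans H⟩

theorem relFPOn_basicOpen [Coh.IsQCoh F] (U : X.affineOpens) (V : S.affineOpens)
    (h : (U : X.Opens) ≤ f ⁻¹ᵁ (V : S.Opens)) (g : Γ(X, (U : X.Opens)))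
    (H : Flatn.RelFPOn f F U V h) :
    Flatn.RelFPOn f F (X.affineBasicOpen g) V ((X.basicOpen_le g).trans h) := by
  let _ := (f.appLE (V : S.Opens) (U : X.Opens) h).hom.toAlgebra
  let _ := (f.appLE (V : S.Opens) (X.basicOpen g) ((X.basicOpen_le g).trans h)).hom.toAlgebra
  let _ := (X.presheaf.map (homOfLE (X.basicOpen_le g)).op).hom.toAlgebra
  let _ := Module.compHom Γ(F, X.basicOpen g) (X.presheaf.map (homOfLE (X.basicOpen_le g)).op).hom
  have : IsScalarTower Γ(S, (V : S.Opens)) Γ(X, (U : X.Opens)) Γ(X, X.basicOpen g) :=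
    .of_algebraMap_eq fun r => by
      show f.appLE (V : S.Opens) (X.basicOpen g) _ r = _
      rw [← Scheme.Hom.appLE_map f h (homOfLE (X.basicOpen_le g)).op]
      rfl
  have : IsScalarTower Γ(X, (U : X.Opens)) Γ(X, X.basicOpen g) Γ(F, X.basicOpen g) :=
    .of_algebraMap_smul fun _ _ => rfl
  have := U.2.isLocalization_basicOpen g
  let φ : Γ(F, (U : X.Opens)) →ₗ[Γ(X, (U : X.Opens))] Γ(F, X.basicOpen g) :=
    { toFun := fun m => resM F (X.basicOpen_le g) m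
      map_add' := fun a b => map_add _ a b
      map_smul' := fun r m => resM_smul F _ r m }
  have := EGA43.QcohFP.isLocalizedModule_res F U.2 g φ fun _ => rfl
  exact RelFP.localization g Γ(X, X.basicOpen g) (N := Γ(F, X.basicOpen g)) φ H

theorem relFPOn_of_cover [LocallyOfFiniteType f] [Coh.IsQCoh F] (U : X.affineOpens)
    (V : S.affineOpens) (h : (U : X.Opens) ≤ f ⁻¹ᵁ (V : S.Opens))
    (H : ∀ x ∈ (U : X.Opens), ∃ g : Γ(X, (U : X.Opens)), x ∈ X.basicOpen g ∧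
      Flatn.RelFPOn f F (X.affineBasicOpen g) V ((X.basicOpen_le g).trans h)) :
    Flatn.RelFPOn f F U V h := by
  let _ := (f.appLE (V : S.Opens) (U : X.Opens) h).hom.toAlgebra
  let t : Set Γ(X, (U : X.Opens)) :=
    {g | Flatn.RelFPOn f F (X.affineBasicOpen g) V ((X.basicOpen_le g).trans h)}
  have ht : Ideal.span t = ⊤ := by
    refine U.2.self_le_iSup_basicOpen_iff.1 fun x hx => ?_
    obtain ⟨g, hxg, hg⟩ := H x hx
    exact Opens.mem_iSup.2 ⟨⟨g, hg⟩, hxg⟩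
  have : Algebra.FiniteType Γ(S, (V : S.Opens)) Γ(X, (U : X.Opens)) := appLE_finiteType f U.2 V.2 h
  let _ : ∀ g : t, Algebra Γ(X, (U : X.Opens)) Γ(X, X.basicOpen g.val) := fun g =>
    (X.presheaf.map (homOfLE (X.basicOpen_le g.val)).op).hom.toAlgebra
  let _ : ∀ g : t, Algebra Γ(S, (V : S.Opens)) Γ(X, X.basicOpen g.val) := fun g =>
    (f.appLE (V : S.Opens) (X.basicOpen g.val) ((X.basicOpen_le g.val).trans h)).hom.toAlgebra
  let _ : ∀ g : t, Module Γ(X, (U : X.Opens)) Γ(F, X.basicOpen g.val) := fun g =>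
    Module.compHom _ (X.presheaf.map (homOfLE (X.basicOpen_le g.val)).op).hom
  have : ∀ g : t, IsScalarTower Γ(X, (U : X.Opens)) Γ(X, X.basicOpen g.val) Γ(F, X.basicOpen g.val) :=
    fun g => IsScalarTower.of_algebraMap_smul fun _ _ => rfl
  have : ∀ g : t, IsScalarTower Γ(S, (V : S.Opens)) Γ(X, (U : X.Opens)) Γ(X, X.basicOpen g.val) :=
    fun g => .of_algebraMap_eq fun r => by
      show f.appLE (V : S.Opens) (X.basicOpen g.val) _ r = _
      rw [← Scheme.Hom.appLE_map f h (homOfLE (X.basicOpen_le g.val)).op]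
      rfl
  have : ∀ g : t, IsLocalization.Away g.val Γ(X, X.basicOpen g.val) := fun g =>
    U.2.isLocalization_basicOpen g.val
  let φ : ∀ g : t, Γ(F, (U : X.Opens)) →ₗ[Γ(X, (U : X.Opens))] Γ(F, X.basicOpen g.val) := fun g =>
    { toFun := fun m => resM F (X.basicOpen_le g.val) m
      map_add' := fun a b => map_add _ a b
      map_smul' := fun r m => resM_smul F _ r m }
  have : ∀ g : t, IsLocalizedModule.Away g.val (φ g) := fun g =>
    EGA43.QcohFP.isLocalizedModule_res F U.2 g.val (φ g) fun _ => rfl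
  exact RelFP.of_localizationSpan t ht (fun g : t => Γ(X, X.basicOpen g.val))
    (fun g : t => Γ(F, X.basicOpen g.val)) φ fun g => g.2

theorem relFPOn_congr {U U' : X.affineOpens} (e : (U : X.Opens) = U') (V : S.affineOpens)
    (h : (U : X.Opens) ≤ f ⁻¹ᵁ (V : S.Opens)) (h' : (U' : X.Opens) ≤ f ⁻¹ᵁ (V : S.Opens))
    (H : Flatn.RelFPOn f F U V h) : Flatn.RelFPOn f F U' V h' := by
  obtain rfl : U = U' := Subtype.ext e
  exact H

theorem isRelFP_of_forall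
    (H : ∀ (U : X.affineOpens) (V : S.affineOpens) (h : (U : X.Opens) ≤ f ⁻¹ᵁ (V : S.Opens)),
      Flatn.RelFPOn f F U V h) : Flatn.IsRelFP f F := by
  refine ⟨Set.univ, top_le_iff.1 fun s _ => ?_,
    fun V _ => ⟨{U | (U : X.Opens) ≤ f ⁻¹ᵁ (V : S.Opens)}, ?_, fun U hU h => H U V h⟩⟩
  · obtain ⟨V, hV, hs, -⟩ := TopologicalSpace.Opens.isBasis_iff_nbhd.mp S.isBasis_affineOpens
      (TopologicalSpace.Opens.mem_top s)
    exact Opens.mem_iSup.2 ⟨⟨V, hV⟩, Opens.mem_iSup.2 ⟨trivial, hs⟩⟩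
  · refine le_antisymm (iSup₂_le fun U hU => hU) fun x hx => ?_
    obtain ⟨U, hU, hxU, hle⟩ := TopologicalSpace.Opens.isBasis_iff_nbhd.mp X.isBasis_affineOpens hx
    exact Opens.mem_iSup.2 ⟨⟨U, hU⟩, Opens.mem_iSup.2 ⟨hle, hxU⟩⟩

theorem IsRelFP.exists_mem {f : X ⟶ S} {F : X.Modules} (H : Flatn.IsRelFP f F) (x : X) :
    ∃ (U : X.affineOpens) (V : S.affineOpens) (h : (U : X.Opens) ≤ f ⁻¹ᵁ (V : S.Opens)),
      x ∈ (U : X.Opens) ∧ Flatn.RelFPOn f F U V h := by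
  obtain ⟨𝒱, h𝒱, H⟩ := H
  obtain ⟨V, hV⟩ := Opens.mem_iSup.1 (h𝒱.ge (Opens.mem_top (f x)))
  obtain ⟨hV, hfx⟩ := Opens.mem_iSup.1 hV
  obtain ⟨𝒰, h𝒰, H⟩ := H V hV
  obtain ⟨U, hU⟩ := Opens.mem_iSup.1 (h𝒰.ge (show x ∈ f ⁻¹ᵁ (V : S.Opens) from hfx))
  obtain ⟨hU, hxU⟩ := Opens.mem_iSup.1 hU
  have hle : (U : X.Opens) ≤ f ⁻¹ᵁ (V : S.Opens) := h𝒰 ▸ le_iSup₂_of_le U hU le_rfl
  exact ⟨U, V, hle, hxU, H U hU hle⟩

theorem isRelFP_iff_forall [LocallyOfFiniteType f] [Coh.IsQCoh F] :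
    Flatn.IsRelFP f F ↔
      ∀ (U : X.affineOpens) (V : S.affineOpens) (h : (U : X.Opens) ≤ f ⁻¹ᵁ (V : S.Opens)),
        Flatn.RelFPOn f F U V h := by
  refine ⟨fun H U V h => relFPOn_of_cover f F U V h fun x hx => ?_, isRelFP_of_forall f F⟩
  obtain ⟨U₀, V₀, h₀, hx₀, H₀⟩ := IsRelFP.exists_mem H x
  obtain ⟨a, b, hab, hfx⟩ := exists_basicOpen_le_affine_inter V.2 V₀.2 (f x) ⟨h hx, h₀ hx₀⟩
  let W := S.affineBasicOpen a
  obtain ⟨g₁, hg₁, hxg₁⟩ := U.2.exists_basicOpen_le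
    (V := f ⁻¹ᵁ S.basicOpen a) ⟨x, hfx⟩ hx
  obtain ⟨c, d, hcd, hxc⟩ := exists_basicOpen_le_affine_inter (U.2.basicOpen g₁) U₀.2 x ⟨hxg₁, hx₀⟩
  obtain ⟨g, hg⟩ := U.2.basicOpen_basicOpen_is_basicOpen g₁ c
  refine ⟨g, by rw [hg]; exact hxc, ?_⟩
  have e : X.basicOpen g = X.basicOpen d := hg.trans hcd
  have hW : X.basicOpen g ≤ f ⁻¹ᵁ S.basicOpen a := by
    rw [hg]; exact (X.basicOpen_le c).trans hg₁
  have h1 : Flatn.RelFPOn f F (X.affineBasicOpen g) V₀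
      (e.le.trans ((X.basicOpen_le d).trans h₀)) :=
    relFPOn_congr f F (U := X.affineBasicOpen d) (U' := X.affineBasicOpen g) e.symm V₀ _ _
      (relFPOn_basicOpen f F U₀ V₀ h₀ d H₀)
  rw [relFPOn_change_base f F (X.affineBasicOpen g) (V := V) (V' := W) _ hW (S.basicOpen_le a)]
  exact (relFPOn_change_base f F (X.affineBasicOpen g) (V := V₀) (V' := W) _ hW
    (show S.basicOpen a ≤ V₀ from hab ▸ S.basicOpen_le b)).1 h1

/-- Base change of `RelFPOn` along a finitely presented map of affines upstairs. -/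
theorem relFPOn_pullback {Y : Scheme.{u}} (π : X ⟶ Y) (g : Y ⟶ S) [LocallyOfFinitePresentation π]
    (G : Y.Modules) [Coh.IsQCoh G] (U : X.affineOpens) (W : Y.affineOpens) (V : S.affineOpens)
    (hUW : (U : X.Opens) ≤ π ⁻¹ᵁ (W : Y.Opens)) (hWV : (W : Y.Opens) ≤ g ⁻¹ᵁ (V : S.Opens))
    (h : (U : X.Opens) ≤ (π ≫ g) ⁻¹ᵁ (V : S.Opens))
    (H : Flatn.RelFPOn g G W V hWV) :
    Flatn.RelFPOn (π ≫ g) ((Scheme.Modules.pullback π).obj G) U V h := by
  obtain ⟨E⟩ := nonempty_pullback_sections_equiv π G W.2 U.2 hUW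
  let _ := (π.appLE (W : Y.Opens) (U : X.Opens) hUW).hom.toAlgebra
  let _ := (g.appLE (V : S.Opens) (W : Y.Opens) hWV).hom.toAlgebra
  let _ := ((π ≫ g).appLE (V : S.Opens) (U : X.Opens) h).hom.toAlgebra
  have : IsScalarTower Γ(S, (V : S.Opens)) Γ(Y, (W : Y.Opens)) Γ(X, (U : X.Opens)) :=
    .of_algebraMap_eq fun r => by
      show (π ≫ g).appLE (V : S.Opens) (U : X.Opens) h r = _
      rw [← Scheme.Hom.appLE_comp_appLE π g _ _ _ hWV hUW]
      rfl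
  have : Algebra.FinitePresentation Γ(Y, (W : Y.Opens)) Γ(X, (U : X.Opens)) :=
    appLE_fp π U.2 W.2 hUW
  exact RelFP.of_linearEquiv E (RelFP.baseChange_algebra
    (TensorProduct.mk Γ(Y, (W : Y.Opens)) Γ(X, (U : X.Opens)) Γ(G, (W : Y.Opens)) 1)
    (TensorProduct.isBaseChange _ _ _) H)

theorem relFPOn_trans {Y : Scheme.{u}} (π : X ⟶ Y) (g : Y ⟶ S) [LocallyOfFinitePresentation g]
    (U : X.affineOpens) (W : Y.affineOpens) (V : S.affineOpens)
    (hUW : (U : X.Opens) ≤ π ⁻¹ᵁ (W : Y.Opens)) (hWV : (W : Y.Opens) ≤ g ⁻¹ᵁ (V : S.Opens))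
    (h : (U : X.Opens) ≤ (π ≫ g) ⁻¹ᵁ (V : S.Opens))
    (H : Flatn.RelFPOn π F U W hUW) : Flatn.RelFPOn (π ≫ g) F U V h := by
  let _ := (π.appLE (W : Y.Opens) (U : X.Opens) hUW).hom.toAlgebra
  let _ := (g.appLE (V : S.Opens) (W : Y.Opens) hWV).hom.toAlgebra
  let _ := ((π ≫ g).appLE (V : S.Opens) (U : X.Opens) h).hom.toAlgebra
  have : IsScalarTower Γ(S, (V : S.Opens)) Γ(Y, (W : Y.Opens)) Γ(X, (U : X.Opens)) :=
    .of_algebraMap_eq fun r => by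
      show (π ≫ g).appLE (V : S.Opens) (U : X.Opens) h r = _
      rw [← Scheme.Hom.appLE_comp_appLE π g _ _ _ hWV hUW]
      rfl
  have : Algebra.FinitePresentation Γ(S, (V : S.Opens)) Γ(Y, (W : Y.Opens)) :=
    appLE_fp g W.2 V.2 hWV
  exact RelFP.trans H

/-- It is enough to find, near every point of the base, an affine open with locally good pairs. -/
theorem isRelFP_of_local
    (H : ∀ s : S, ∃ V : S.affineOpens, s ∈ (V : S.Opens) ∧ ∀ x : X, f x ∈ (V : S.Opens) →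
      ∃ (U : X.affineOpens) (h : (U : X.Opens) ≤ f ⁻¹ᵁ (V : S.Opens)),
        x ∈ (U : X.Opens) ∧ Flatn.RelFPOn f F U V h) : Flatn.IsRelFP f F := by
  refine ⟨{V | ∀ x : X, f x ∈ (V : S.Opens) →
      ∃ (U : X.affineOpens) (h : (U : X.Opens) ≤ f ⁻¹ᵁ (V : S.Opens)),
        x ∈ (U : X.Opens) ∧ Flatn.RelFPOn f F U V h}, top_le_iff.1 fun s _ => ?_,
    fun V hV => ⟨{U | ∃ h : (U : X.Opens) ≤ f ⁻¹ᵁ (V : S.Opens), Flatn.RelFPOn f F U V h},
      le_antisymm (iSup₂_le fun U hU => hU.1) fun x hx => ?_, fun U hU _ => hU.2⟩⟩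
  · obtain ⟨V, hs, hV⟩ := H s
    exact Opens.mem_iSup.2 ⟨V, Opens.mem_iSup.2 ⟨hV, hs⟩⟩
  · obtain ⟨U, h, hxU, hU⟩ := hV x hx
    exact Opens.mem_iSup.2 ⟨U, Opens.mem_iSup.2 ⟨⟨h, hU⟩, hxU⟩⟩

theorem relFPOn_push_iff {Y : Scheme.{u}} (π : X ⟶ Y) (g : Y ⟶ S) [IsFinite π]
    [LocallyOfFiniteType g] (W : Y.affineOpens) (V : S.affineOpens)
    (hWV : (W : Y.Opens) ≤ g ⁻¹ᵁ (V : S.Opens))
    (h : π ⁻¹ᵁ (W : Y.Opens) ≤ (π ≫ g) ⁻¹ᵁ (V : S.Opens)) :
    Flatn.RelFPOn g ((Coh.push π).obj F) W V hWV ↔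
      Flatn.RelFPOn (π ≫ g) F ⟨π ⁻¹ᵁ (W : Y.Opens), W.2.preimage π⟩ V h := by
  let _ := (g.appLE (V : S.Opens) (W : Y.Opens) hWV).hom.toAlgebra
  let _ := ((π ≫ g).appLE (V : S.Opens) (π ⁻¹ᵁ (W : Y.Opens)) h).hom.toAlgebra
  let _ := (π.app (W : Y.Opens)).hom.toAlgebra
  let _ := Module.compHom Γ(F, π ⁻¹ᵁ (W : Y.Opens)) (π.app (W : Y.Opens)).hom
  have : IsScalarTower Γ(Y, (W : Y.Opens)) Γ(X, π ⁻¹ᵁ (W : Y.Opens)) Γ(F, π ⁻¹ᵁ (W : Y.Opens)) :=
    .of_algebraMap_smul fun _ _ => rfl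
  have : IsScalarTower Γ(S, (V : S.Opens)) Γ(Y, (W : Y.Opens)) Γ(X, π ⁻¹ᵁ (W : Y.Opens)) :=
    .of_algebraMap_eq fun r => by
      show (π ≫ g).appLE (V : S.Opens) (π ⁻¹ᵁ (W : Y.Opens)) h r = _
      rw [← Scheme.Hom.appLE_comp_appLE π g _ _ _ hWV le_rfl, π.appLE_eq_app]
      rfl
  have : Module.Finite Γ(Y, (W : Y.Opens)) Γ(X, π ⁻¹ᵁ (W : Y.Opens)) :=
    IsFinite.finite_app π _ W.2
  have : Algebra.FiniteType Γ(S, (V : S.Opens)) Γ(Y, (W : Y.Opens)) :=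
    appLE_finiteType g W.2 V.2 hWV
  exact relFP_iff_of_finite (R := Γ(S, (V : S.Opens))) (A := Γ(Y, (W : Y.Opens)))
    (B := Γ(X, π ⁻¹ᵁ (W : Y.Opens))) (M := Γ(F, π ⁻¹ᵁ (W : Y.Opens)))

/-- Base change of `RelFPOn` along an arbitrary map of affine bases. -/
theorem relFPOn_baseChange {X' S' : Scheme.{u}} (g : S' ⟶ S) (f' : X' ⟶ S') (g' : X' ⟶ X)
    (hc : IsPullback g' f' f g) [Coh.IsQCoh F] (U : X.affineOpens) (V : S.affineOpens)
    (U' : X'.affineOpens) (V' : S'.affineOpens)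
    (h : (U : X.Opens) ≤ f ⁻¹ᵁ (V : S.Opens)) (hV : (V' : S'.Opens) ≤ g ⁻¹ᵁ (V : S.Opens))
    (h' : (U' : X'.Opens) ≤ f' ⁻¹ᵁ (V' : S'.Opens))
    (hU' : (U' : X'.Opens) = g' ⁻¹ᵁ (U : X.Opens) ⊓ f' ⁻¹ᵁ (V' : S'.Opens))
    (H : Flatn.RelFPOn f F U V h) :
    Flatn.RelFPOn f' ((Scheme.Modules.pullback g').obj F) U' V' h' := by
  have hle : (U' : X'.Opens) ≤ g' ⁻¹ᵁ (U : X.Opens) := hU'.trans_le inf_le_left
  obtain ⟨E⟩ := nonempty_pullback_sections_equiv g' F U.2 U'.2 hle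
  have := isIso_pushoutSection_of_isAffineOpen hc hV h hU' V.2 V'.2 U.2
  have hp := (isIso_pushoutSection_iff hc hV h hU').1 this
  let _ := (f.appLE (V : S.Opens) (U : X.Opens) h).hom.toAlgebra
  let _ := (g.appLE (V : S.Opens) (V' : S'.Opens) hV).hom.toAlgebra
  let _ := (g'.appLE (U : X.Opens) (U' : X'.Opens) hle).hom.toAlgebra
  let _ := (f'.appLE (V' : S'.Opens) (U' : X'.Opens) h').hom.toAlgebra
  let _ : Algebra Γ(S, (V : S.Opens)) Γ(X', (U' : X'.Opens)) :=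
    ((g'.appLE (U : X.Opens) (U' : X'.Opens) hle).hom.comp
      (f.appLE (V : S.Opens) (U : X.Opens) h).hom).toAlgebra
  have : IsScalarTower Γ(S, (V : S.Opens)) Γ(X, (U : X.Opens)) Γ(X', (U' : X'.Opens)) :=
    .of_algebraMap_eq fun _ => rfl
  have : IsScalarTower Γ(S, (V : S.Opens)) Γ(S', (V' : S'.Opens)) Γ(X', (U' : X'.Opens)) :=
    .of_algebraMap_eq fun r => ConcreteCategory.congr_hom hp.w r
  have : Algebra.IsPushout Γ(S, (V : S.Opens)) Γ(X, (U : X.Opens)) Γ(S', (V' : S'.Opens))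
      Γ(X', (U' : X'.Opens)) := CommRingCat.isPushout_iff_isPushout.1 hp
  exact RelFP.of_linearEquiv E (RelFP.baseChange
    (TensorProduct.mk Γ(X, (U : X.Opens)) Γ(X', (U' : X'.Opens)) Γ(F, (U : X.Opens)) 1)
    (TensorProduct.isBaseChange _ _ _) H)

theorem app_section_retraction {A B : X.Modules} (i : A ⟶ B) (r : B ⟶ A) (e : i ≫ r = 𝟙 A)
    (U : X.Opens) (a : Γ(A, U)) : r.app U (i.app U a) = a :=
  ConcreteCategory.congr_hom (congrArg (fun φ : A ⟶ A => φ.app U) e) a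

/-- A direct summand of a relatively finitely presented module. -/
theorem relFPOn_of_splitting (E : ShortComplex X.Modules) (hE : E.Splitting) [Coh.IsQCoh E.X₁]
    (U : X.affineOpens) (V : S.affineOpens) (h : (U : X.Opens) ≤ f ⁻¹ᵁ (V : S.Opens))
    (H : Flatn.RelFPOn f E.X₂ U V h) : Flatn.RelFPOn f E.X₃ U V h := by
  let _ := (f.appLE (V : S.Opens) (U : X.Opens) h).hom.toAlgebra
  have : Module.Finite Γ(X, (U : X.Opens)) Γ(E.X₂, (U : X.Opens)) := RelFP.moduleFinite H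
  have : Module.Finite Γ(X, (U : X.Opens)) Γ(E.X₁, (U : X.Opens)) :=
    Module.Finite.of_surjective (appLin hE.r U) fun a =>
      ⟨E.f.app U a, app_section_retraction E.f hE.r hE.f_r U a⟩
  exact RelFP.of_quotient (appLin E.f U) (appLin E.g U)
    (fun s => ⟨sections_exact hE.shortExact s, by rintro ⟨t, rfl⟩; exact sections_zero _ t⟩)
    (sections_surjective hE.shortExact U.2) H

theorem relFPOn_biprod_fst (G : X.Modules) [Coh.IsQCoh G] (U : X.affineOpens) (V : S.affineOpens)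
    (h : (U : X.Opens) ≤ f ⁻¹ᵁ (V : S.Opens)) (H : Flatn.RelFPOn f (F ⊞ G) U V h) :
    Flatn.RelFPOn f F U V h := by
  let E : ShortComplex X.Modules := ShortComplex.mk (biprod.inr : G ⟶ F ⊞ G) biprod.fst (by simp)
  have : Coh.IsQCoh E.X₁ := ‹Coh.IsQCoh G›
  exact relFPOn_of_splitting f E
    { r := biprod.snd, s := biprod.inl, id := (add_comm _ _).trans biprod.total,
      f_r := biprod.inr_snd, s_g := biprod.inl_fst } U V h H

theorem relFPOn_biprod_snd (G : X.Modules) [Coh.IsQCoh F] (U : X.affineOpens) (V : S.affineOpens)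
    (h : (U : X.Opens) ≤ f ⁻¹ᵁ (V : S.Opens)) (H : Flatn.RelFPOn f (F ⊞ G) U V h) :
    Flatn.RelFPOn f G U V h := by
  let E : ShortComplex X.Modules := ShortComplex.mk (biprod.inl : F ⟶ F ⊞ G) biprod.snd (by simp)
  have : Coh.IsQCoh E.X₁ := ‹Coh.IsQCoh F›
  exact relFPOn_of_splitting f E (ShortComplex.Splitting.ofHasBinaryBiproduct F G) U V h H

end Groth.Agent.Flatn12
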