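import Mathlib.RingTheory.Finiteness.ModuleFinitePresentation
import Mathlib.RingTheory.Extension.Presentation.Core
import Mathlib.RingTheory.Localization.BaseChange
import Mathlib.RingTheory.TensorProduct.MvPolynomial
import Mathlib.RingTheory.IntegralClosure.IsIntegralClosure.Basic
import Groth.Prelude

/-! Relative finite presentation of modules, ring level. -/

universe u

set_option autoImplicit false
set_option backward.isDefEq.respectTransparency false

open TensorProduct Function MvPolynomial

namespace Groth.Agent.Flatn12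

/-- A module finitely presented over `P` is so over any `P`-algebra of finite type acting on it. -/
theorem fp_of_finiteType {P Q M : Type u} [CommRing P] [CommRing Q] [Algebra P Q]
    [Algebra.FiniteType P Q] [AddCommGroup M] [Module P M] [Module Q M] [IsScalarTower P Q M]
    [Module.FinitePresentation P M] : Module.FinitePresentation Q M := by
  classical
  obtain ⟨s, hs⟩ := Algebra.FiniteType.out (R := P) (A := Q)
  obtain ⟨t, ht⟩ := Module.Finite.fg_top (R := P) (M := M)
  let l : Q ⊗[P] M →ₗ[Q] M := (LinearMap.id : M →ₗ[P] M).liftBaseChange Q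
  have hl : ∀ q m, l (q ⊗ₜ m) = q • m := fun q m => by simp [l]
  have hsurj : Surjective l := fun m => ⟨1 ⊗ₜ m, by rw [hl, one_smul]⟩
  refine Module.finitePresentation_of_surjective l hsurj ?_
  let gen : Q × M → Q ⊗[P] M := fun x => x.1 ⊗ₜ x.2 - 1 ⊗ₜ (x.1 • x.2)
  let N : Submodule Q (Q ⊗[P] M) := Submodule.span Q (gen '' ↑(s ×ˢ t))
  have hN : N.FG := ⟨(s ×ˢ t).image gen, by rw [Finset.coe_image]⟩
  suffices LinearMap.ker l = N from this ▸ hN
  have hs' : ∀ q ∈ s, ∀ m : M, gen (q, m) ∈ N := by
    intro q hq m
    have hm : m ∈ Submodule.span P (↑t : Set M) := ht ▸ Submodule.mem_top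
    induction hm using Submodule.span_induction with
    | mem x hx => exact Submodule.subset_span ⟨(q, x), Finset.mk_mem_product hq hx, rfl⟩
    | zero => simp [gen]
    | add a b _ _ ha hb =>
      have : gen (q, a + b) = gen (q, a) + gen (q, b) := by
        simp only [gen, smul_add, tmul_add]; abel
      rw [this]; exact add_mem ha hb
    | smul c a _ ha =>
      have : gen (q, c • a) = algebraMap P Q c • gen (q, a) := by
        simp only [gen, algebraMap_smul, tmul_smul, smul_sub, smul_comm q c a]
      rw [this]; exact N.smul_mem _ ha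
  have key : ∀ (q : Q) (m : M), gen (q, m) ∈ N := by
    intro q
    induction (hs ▸ Algebra.mem_top : q ∈ Algebra.adjoin P (↑s : Set Q)) using Algebra.adjoin_induction with
    | mem x hx => exact hs' x hx
    | algebraMap c =>
      intro m
      simp [gen, Algebra.algebraMap_eq_smul_one, ← smul_tmul', tmul_smul]
    | add a b _ _ ha hb =>
      intro m
      have : gen (a + b, m) = gen (a, m) + gen (b, m) := by
        simp only [gen, add_smul, tmul_add, add_tmul]; abel
      rw [this]; exact add_mem (ha m) (hb m)
    | mul a b _ _ ha hb =>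
      intro m
      have : gen (a * b, m) = a • gen (b, m) + gen (a, b • m) := by
        simp only [gen, smul_sub, smul_tmul', smul_eq_mul, mul_one, mul_smul]; abel
      rw [this]; exact add_mem (N.smul_mem _ (hb m)) (ha _)
  refine le_antisymm (fun z hz => ?_) ?_
  · have : ∀ z, z - 1 ⊗ₜ l z ∈ N := fun z => by
      induction z using TensorProduct.induction_on with
      | zero => simp
      | tmul q m => rw [hl]; exact key q m
      | add a b ha hb =>
        have : a + b - 1 ⊗ₜ l (a + b) = (a - 1 ⊗ₜ l a) + (b - 1 ⊗ₜ l b) := by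
          rw [map_add, tmul_add]; abel
        rw [this]; exact add_mem ha hb
    simpa [LinearMap.mem_ker.1 hz] using this z
  · refine Submodule.span_le.2 ?_
    rintro _ ⟨x, -, rfl⟩
    simp [gen, hl]

/-- Module structure through a ring map. -/
def FPVia {P S : Type u} [CommRing P] [CommRing S] (φ : P →+* S) (M : Type u) [AddCommGroup M]
    [Module S M] : Prop :=
  @Module.FinitePresentation P M _ _ (Module.compHom M φ)

section Via

variable {P S : Type u} [CommRing P] [CommRing S] {M : Type u} [AddCommGroup M] [Module S M]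

theorem fpVia_iff [Algebra P S] [Module P M] [IsScalarTower P S M] :
    FPVia (algebraMap P S) M ↔ Module.FinitePresentation P M := by
  have : ‹Module P M› = Module.compHom M (algebraMap P S) :=
    Module.ext' _ _ fun p m => (algebraMap_smul S p m).symm
  subst this
  rfl

theorem fpVia_id_iff : FPVia (RingHom.id S) M ↔ Module.FinitePresentation S M :=
  fpVia_iff (P := S) (S := S)

theorem FPVia.ascend {Q : Type u} [CommRing Q] (g : P →+* Q) (hg : g.FiniteType) (ψ : Q →+* S)
    (h : FPVia (ψ.comp g) M) : FPVia ψ M := by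
  let _ := g.toAlgebra
  let _ : Module Q M := Module.compHom M ψ
  let _ : Module P M := Module.compHom M (ψ.comp g)
  have : IsScalarTower P Q M := .of_algebraMap_smul fun _ _ => rfl
  have : Module.FinitePresentation P M := h
  have : Algebra.FiniteType P Q := hg
  exact fp_of_finiteType (P := P)

theorem FPVia.descend {Q : Type u} [CommRing Q] (g : P →+* Q)
    (hg : letI := g.toAlgebra; Module.FinitePresentation P Q) (ψ : Q →+* S)
    (h : FPVia ψ M) : FPVia (ψ.comp g) M := by
  let _ := g.toAlgebra
  let _ : Module Q M := Module.compHom M ψ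
  let _ : Module P M := Module.compHom M (ψ.comp g)
  have : IsScalarTower P Q M := .of_algebraMap_smul fun _ _ => rfl
  have : Module.FinitePresentation Q M := h
  exact @Module.FinitePresentation.trans P M _ _ _ Q _ _ _ _ hg _

theorem fpVia_comp_iff_of_surjective {Q : Type u} [CommRing Q] (g : P →+* Q) (hg : Surjective g)
    (hk : (RingHom.ker g).FG) (ψ : Q →+* S) : FPVia (ψ.comp g) M ↔ FPVia ψ M := by
  refine ⟨FPVia.ascend g (RingHom.FiniteType.of_surjective g hg) ψ, FPVia.descend g ?_ ψ⟩
  let _ := g.toAlgebra
  refine Module.finitePresentation_of_surjective (Algebra.linearMap P Q) hg ?_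
  convert! hk

theorem FPVia.of_linearEquiv {φ : P →+* S} {N : Type u} [AddCommGroup N] [Module S N]
    (e : M ≃ₗ[S] N) (h : FPVia φ M) : FPVia φ N := by
  let _ : Module P M := Module.compHom M φ
  let _ : Module P N := Module.compHom N φ
  let e' : M ≃ₗ[P] N := { e with map_smul' := fun p m => map_smul e (φ p) m }
  exact @Module.FinitePresentation.of_equiv P M N _ _ _ _ _ e' h

end Via

section Relative

variable {R S : Type u} [CommRing R] [CommRing S] [Algebra R S] {M : Type u} [AddCommGroup M]
  [Module S M]

theorem relFinitePresentation_def :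
    FlatCA.RelFinitePresentation R S M ↔
      ∃ (n : ℕ) (φ : MvPolynomial (Fin n) R →ₐ[R] S), Surjective φ ∧ FPVia φ.toRingHom M :=
  Iff.rfl

theorem fpVia_poly_comp_iff {n : ℕ} {P : Type u} [CommRing P] [Algebra R P]
    [Algebra.FinitePresentation R P] (g : MvPolynomial (Fin n) R →ₐ[R] P) (hg : Surjective g)
    (ψ : P →ₐ[R] S) : FPVia (ψ.comp g).toRingHom M ↔ FPVia ψ.toRingHom M :=
  fpVia_comp_iff_of_surjective g.toRingHom hg
    (Algebra.FinitePresentation.ker_fG_of_surjective g hg) ψ.toRingHom

theorem fpVia_iff_fpVia {P P' : Type u} [CommRing P] [Algebra R P] [Algebra.FinitePresentation R P]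
    [CommRing P'] [Algebra R P'] [Algebra.FinitePresentation R P'] (φ : P →ₐ[R] S)
    (hφ : Surjective φ) (φ' : P' →ₐ[R] S) (hφ' : Surjective φ') :
    FPVia φ.toRingHom M ↔ FPVia φ'.toRingHom M := by
  obtain ⟨n, π, hπ⟩ := Algebra.FiniteType.iff_quotient_mvPolynomial''.1
    (inferInstance : Algebra.FiniteType R P)
  obtain ⟨m, π', hπ'⟩ := Algebra.FiniteType.iff_quotient_mvPolynomial''.1
    (inferInstance : Algebra.FiniteType R P')
  rw [← fpVia_poly_comp_iff π hπ φ, ← fpVia_poly_comp_iff π' hπ' φ']
  choose l hl using fun i => (hφ.comp hπ) ((φ'.comp π') (X i))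
  choose l' hl' using fun i => (hφ'.comp hπ') ((φ.comp π) (X i))
  let T := MvPolynomial (Fin (n + m)) R
  let θ : T →ₐ[R] S := aeval (Fin.append (fun i => (φ.comp π) (X i)) (fun i => (φ'.comp π') (X i)))
  let g : T →ₐ[R] MvPolynomial (Fin n) R := aeval (Fin.append X l)
  let g' : T →ₐ[R] MvPolynomial (Fin m) R := aeval (Fin.append l' X)
  have hg : Surjective g := fun p => ⟨rename (Fin.castAdd m) p, by
    rw [aeval_rename, show Fin.append X l ∘ Fin.castAdd m = X by ext1 i; simp, aeval_X_left_apply]⟩
  have hg' : Surjective g' := fun p => ⟨rename (Fin.natAdd n) p, by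
    rw [aeval_rename, show Fin.append l' X ∘ Fin.natAdd n = X by ext1 i; simp, aeval_X_left_apply]⟩
  have h1 : (φ.comp π).comp g = θ := by
    refine algHom_ext fun i => ?_
    induction i using Fin.addCases with
    | left i => simp [g, θ]
    | right i => simpa [g, θ] using hl i
  have h2 : (φ'.comp π').comp g' = θ := by
    refine algHom_ext fun i => ?_
    induction i using Fin.addCases with
    | left i => simpa [g', θ] using hl' i
    | right i => simp [g', θ]
  rw [← fpVia_poly_comp_iff g hg (φ.comp π), ← fpVia_poly_comp_iff g' hg' (φ'.comp π'), h1, h2]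

/-- Independence of the presentation. -/
theorem relFP_iff_fpVia {P : Type u} [CommRing P] [Algebra R P] [Algebra.FinitePresentation R P]
    (φ : P →ₐ[R] S) (hφ : Surjective φ) :
    FlatCA.RelFinitePresentation R S M ↔ FPVia φ.toRingHom M := by
  refine ⟨fun ⟨n, ψ, hψ, h⟩ => (fpVia_iff_fpVia ψ hψ φ hφ).1 h, fun h => ?_⟩
  obtain ⟨n, π, hπ⟩ := Algebra.FiniteType.iff_quotient_mvPolynomial''.1
    (inferInstance : Algebra.FiniteType R P)
  exact ⟨n, φ.comp π, hφ.comp hπ, (fpVia_poly_comp_iff π hπ φ).2 h⟩

theorem RelFP.finiteType (h : FlatCA.RelFinitePresentation R S M) : Algebra.FiniteType R S :=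
  let ⟨_, φ, hφ, _⟩ := h
  Algebra.FiniteType.of_surjective φ hφ

theorem RelFP.moduleFinite (h : FlatCA.RelFinitePresentation R S M) : Module.Finite S M := by
  obtain ⟨n, φ, hφ, h⟩ := h
  let _ := φ.toRingHom.toAlgebra
  let _ : Module (MvPolynomial (Fin n) R) M := Module.compHom M φ.toRingHom
  have : IsScalarTower (MvPolynomial (Fin n) R) S M := .of_algebraMap_smul fun _ _ => rfl
  have : Module.FinitePresentation (MvPolynomial (Fin n) R) M := h
  exact Module.Finite.of_restrictScalars_finite (MvPolynomial (Fin n) R) S M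

theorem RelFP.of_linearEquiv {N : Type u} [AddCommGroup N] [Module S N] (e : M ≃ₗ[S] N)
    (h : FlatCA.RelFinitePresentation R S M) : FlatCA.RelFinitePresentation R S N :=
  let ⟨n, φ, hφ, h⟩ := h
  ⟨n, φ, hφ, FPVia.of_linearEquiv e h⟩

end Relative

end Groth.Agent.Flatn12
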