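import Groth.Agent.Flatn12.RelFPOps

/-! Relative finite presentation is local. -/

universe u

set_option autoImplicit false
set_option backward.isDefEq.respectTransparency false

open TensorProduct Function MvPolynomial

namespace Groth.Agent.Flatn12

variable {R A : Type u} [CommRing R] [CommRing A] [Algebra R A] {M : Type u} [AddCommGroup M]
  [Module A M]

theorem RelFP.localization (g : A) (Ag : Type u) [CommRing Ag] [Algebra A Ag]
    [IsLocalization.Away g Ag] [Algebra R Ag] [IsScalarTower R A Ag] {N : Type u} [AddCommGroup N]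
    [Module A N] [Module Ag N] [IsScalarTower A Ag N] (f : M →ₗ[A] N) [IsLocalizedModule.Away g f]
    (h : FlatCA.RelFinitePresentation R A M) : FlatCA.RelFinitePresentation R Ag N :=
  have : Algebra.FinitePresentation A Ag := IsLocalization.Away.finitePresentation g
  RelFP.baseChange_algebra f (IsLocalizedModule.isBaseChange (Submonoid.powers g) Ag f) h

theorem exists_surjective_localization {P : Type u} [CommRing P] [Algebra R P] (φ : P →ₐ[R] A)
    (hφ : Surjective φ) (x : P) (g : A) (hx : φ x = g) (Ag : Type u) [CommRing Ag] [Algebra A Ag]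
    [IsLocalization.Away g Ag] [Algebra R Ag] [IsScalarTower R A Ag] :
    ∃ ψ : Localization.Away x →ₐ[R] Ag, Surjective ψ ∧
      ∀ p, ψ (algebraMap P _ p) = algebraMap A Ag (φ p) := by
  let h₁ : P →ₐ[R] Ag := (IsScalarTower.toAlgHom R A Ag).comp φ
  have hu : ∀ y : Submonoid.powers x, IsUnit (h₁ y) := fun y => by
    obtain ⟨k, hk⟩ := y.2
    rw [← hk, map_pow]
    refine IsUnit.pow k ?_
    show IsUnit (algebraMap A Ag (φ x))
    rw [hx]
    exact IsLocalization.Away.algebraMap_isUnit g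
  let ψ : Localization.Away x →ₐ[R] Ag := IsLocalization.liftAlgHom (M := Submonoid.powers x) hu
  have hψ : ∀ p, ψ (algebraMap P _ p) = algebraMap A Ag (φ p) := fun p => by simp [ψ, h₁]
  refine ⟨ψ, fun y => ?_, hψ⟩
  obtain ⟨⟨a, s⟩, hy⟩ := IsLocalization.surj (Submonoid.powers g) y
  obtain ⟨k, hk⟩ := s.2
  obtain ⟨p, rfl⟩ := hφ a
  refine ⟨IsLocalization.mk' (M := Submonoid.powers x) (Localization.Away x) p ⟨x ^ k, k, rfl⟩, ?_⟩
  have hunit : IsUnit (algebraMap A Ag (s : A)) := IsLocalization.map_units Ag s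
  refine hunit.mul_right_cancel ?_
  rw [hy, ← hψ p, show (s : A) = φ (x ^ k) by rw [map_pow, hx]; exact hk.symm, ← hψ, ← map_mul]
  exact congrArg ψ (IsLocalization.mk'_spec (M := Submonoid.powers x) (Localization.Away x) p ⟨x ^ k, k, rfl⟩)

theorem isLocalizedModule_compHom {P Px A' : Type u} [CommRing P] [CommRing Px] [Algebra P Px]
    (x : P) [IsLocalization.Away x Px] [CommRing A'] [Algebra A A'] (φ : P →+* A) (g : A) (hg : φ x = g)
    {N : Type u} [AddCommGroup N] [Module A N] [Module A' N] [IsScalarTower A A' N]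
    [Module P M] [Module P N] [Module Px N] [IsScalarTower P Px N]
    (hM : ∀ (p : P) (m : M), p • m = φ p • m) (hN : ∀ (p : P) (m : N), p • m = φ p • m)
    (f : M →ₗ[A] N) [IsLocalizedModule.Away g f] (F : M →ₗ[P] N) (hF : ∀ m, F m = f m) :
    IsLocalizedModule.Away x F := by
  refine { map_units := fun s => EGA43.QcohFP.map_units_of_tower (R' := Px) (Submonoid.powers x) s,
           surj := fun y => ?_, exists_of_eq := fun {a b} e => ?_ }
  · obtain ⟨⟨m, s⟩, hm⟩ := IsLocalizedModule.surj (Submonoid.powers g) f y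
    obtain ⟨k, hk⟩ := s.2
    refine ⟨⟨m, ⟨x ^ k, k, rfl⟩⟩, ?_⟩
    show x ^ k • y = F m
    rw [hN, hF, map_pow, hg, ← hm, Submonoid.smul_def, ← hk]
  · rw [hF, hF] at e
    obtain ⟨s, hs⟩ := IsLocalizedModule.exists_of_eq (S := Submonoid.powers g) (f := f) e
    obtain ⟨k, hk⟩ := s.2
    refine ⟨⟨x ^ k, k, rfl⟩, ?_⟩
    show x ^ k • a = x ^ k • b
    rw [hM, hM, map_pow, hg]
    rw [Submonoid.smul_def, Submonoid.smul_def, ← hk] at hs
    exact hs

theorem fpVia_of_localizationSpan {P : Type u} [CommRing P] (φ : P →+* A) (t : Set P)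
    (ht : Ideal.span t = ⊤) (Pₜ : t → Type u) [∀ x, CommRing (Pₜ x)] [∀ x, Algebra P (Pₜ x)]
    [∀ x : t, IsLocalization.Away x.1 (Pₜ x)] {Aₜ : t → Type u} [∀ x, CommRing (Aₜ x)]
    [∀ x, Algebra A (Aₜ x)] (ψ : ∀ x, Pₜ x →+* Aₜ x)
    (hψ : ∀ x p, ψ x (algebraMap P _ p) = algebraMap A (Aₜ x) (φ p))
    (g : t → A) (hg : ∀ x, φ x.1 = g x)
    {Mₜ : t → Type u} [∀ x, AddCommGroup (Mₜ x)] [∀ x, Module A (Mₜ x)]
    [∀ x, Module (Aₜ x) (Mₜ x)] [∀ x, IsScalarTower A (Aₜ x) (Mₜ x)]
    (f : ∀ x, M →ₗ[A] Mₜ x) [∀ x, IsLocalizedModule.Away (g x) (f x)]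
    (H : ∀ x, FPVia (ψ x) (Mₜ x)) : FPVia φ M := by
  let _ : Module P M := Module.compHom M φ
  let _ : ∀ x : t, Module P (Mₜ x) := fun x => Module.compHom (Mₜ x) φ
  let _ : ∀ x : t, Module (Pₜ x) (Mₜ x) := fun x => Module.compHom (Mₜ x) (ψ x)
  have : ∀ x : t, IsScalarTower P (Pₜ x) (Mₜ x) := fun x =>
    IsScalarTower.of_algebraMap_smul (R := P) (A := Pₜ x) (M := Mₜ x) fun p m => by
      show ψ x (algebraMap P _ p) • m = φ p • m
      rw [hψ x p, algebraMap_smul]
  let F : ∀ x : t, M →ₗ[P] Mₜ x := fun x =>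
    { f x with map_smul' := fun p m => map_smul (f x) (φ p) m }
  have : ∀ x : t, IsLocalizedModule.Away x.1 (F x) := fun x =>
    isLocalizedModule_compHom (A' := Aₜ x) (Px := Pₜ x) x.1 φ (g x) (hg x) (fun _ _ => rfl)
      (fun _ _ => rfl) (f x) (F x) fun _ => rfl
  exact EGA43.QcohFP.finitePresentation_of_localizationSpan t ht Mₜ Pₜ F H

theorem RelFP.of_localizationSpan [Algebra.FiniteType R A] (t : Set A) (ht : Ideal.span t = ⊤)
    (Aₜ : t → Type u) [∀ g, CommRing (Aₜ g)] [∀ g, Algebra A (Aₜ g)] [∀ g, Algebra R (Aₜ g)]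
    [∀ g, IsScalarTower R A (Aₜ g)] [∀ g : t, IsLocalization.Away g.val (Aₜ g)]
    (Mₜ : t → Type u) [∀ g, AddCommGroup (Mₜ g)] [∀ g, Module A (Mₜ g)]
    [∀ g, Module (Aₜ g) (Mₜ g)] [∀ g, IsScalarTower A (Aₜ g) (Mₜ g)]
    (f : ∀ g, M →ₗ[A] Mₜ g) [∀ g : t, IsLocalizedModule.Away g.val (f g)]
    (H : ∀ g, FlatCA.RelFinitePresentation R (Aₜ g) (Mₜ g)) :
    FlatCA.RelFinitePresentation R A M := by
  classical
  obtain ⟨n, π, hπ⟩ := Algebra.FiniteType.iff_quotient_mvPolynomial''.1
    (inferInstance : Algebra.FiniteType R A)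
  let P₀ := MvPolynomial (Fin n) R
  choose G hG using fun g : t => hπ g.1
  have h1 : (1 : A) ∈ Submodule.span A (Set.range fun g : t => g.1) := by
    show (1 : A) ∈ Ideal.span (Set.range fun g : t => g.1)
    rw [Subtype.range_coe, ht]
    exact Submodule.mem_top
  obtain ⟨c, hc⟩ := Finsupp.mem_span_range_iff_exists_finsupp.1 h1
  choose C hC using fun g : t => hπ (c g)
  let w : P₀ := ∑ g ∈ c.support, C g * G g
  have hw : π w = 1 := by
    rw [← hc, map_sum]
    exact Finset.sum_congr rfl fun g _ => by rw [map_mul, hC, hG]; rfl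
  have hu : ∀ y : Submonoid.powers w, IsUnit (π y) := fun y => by
    obtain ⟨k, hk⟩ := y.2
    simp [← hk, hw]
  let P := Localization.Away w
  let φ : P →ₐ[R] A := IsLocalization.liftAlgHom (M := Submonoid.powers w) hu
  have hφP : ∀ p : P₀, φ (algebraMap P₀ P p) = π p := fun p => IsLocalization.lift_eq hu p
  have hφ : Surjective φ := fun a => by
    obtain ⟨p, rfl⟩ := hπ a
    exact ⟨_, hφP p⟩
  have : Algebra.FinitePresentation P₀ P := IsLocalization.Away.finitePresentation w
  have : Algebra.FinitePresentation R P := Algebra.FinitePresentation.trans R P₀ P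
  refine (relFP_iff_fpVia φ hφ).2 ?_
  let t' : Set P := Set.range fun g : t => algebraMap P₀ P (G g)
  have ht' : Ideal.span t' = ⊤ := by
    refine Ideal.eq_top_of_isUnit_mem _ ?_ (IsLocalization.Away.algebraMap_isUnit (S := P) w)
    show algebraMap P₀ P w ∈ Ideal.span t'
    rw [map_sum]
    exact Ideal.sum_mem _ fun g _ => by
      rw [map_mul]
      exact Ideal.mul_mem_left _ _ (Ideal.subset_span ⟨g, rfl⟩)
  choose γ hγ using fun x : t' => x.2
  have hφγ : ∀ x : t', φ x.1 = (γ x).1 := fun x => by rw [← hγ x, hφP, hG]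
  choose ψ hψs hψ using fun x : t' =>
    exists_surjective_localization φ hφ x.1 (γ x).1 (hφγ x) (Aₜ (γ x))
  refine fpVia_of_localizationSpan φ.toRingHom t' ht' (fun x => Localization.Away x.1)
    (fun x => (ψ x).toRingHom) (fun x p => hψ x p) (fun x => (γ x).1) hφγ
    (fun x => f (γ x)) fun x => ?_
  have : Algebra.FinitePresentation P (Localization.Away x.1) :=
    IsLocalization.Away.finitePresentation x.1
  have : Algebra.FinitePresentation R (Localization.Away x.1) :=
    Algebra.FinitePresentation.trans R P _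
  exact (relFP_iff_fpVia (ψ x) (hψs x)).1 (H (γ x))

end Groth.Agent.Flatn12
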