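import Groth.Agent.Flatn12.RelFP
import Groth.Agent.EGA43.QcohFP

/-! Operations preserving relative finite presentation, ring level. -/

universe u

set_option autoImplicit false
set_option backward.isDefEq.respectTransparency false

open TensorProduct Function MvPolynomial

namespace Groth.Agent.Flatn12

section Tower

variable {R R' S : Type u} [CommRing R] [CommRing R'] [CommRing S] [Algebra R R'] [Algebra R S]
  [Algebra R' S] [IsScalarTower R R' S] {M : Type u} [AddCommGroup M] [Module S M]

theorem RelFP.of_tower [Algebra.FiniteType R R'] (h : FlatCA.RelFinitePresentation R S M) :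
    FlatCA.RelFinitePresentation R' S M := by
  obtain ⟨n, φ, hφ, h⟩ := h
  let φ' : MvPolynomial (Fin n) R' →ₐ[R'] S := aeval fun i => φ (X i)
  let g : MvPolynomial (Fin n) R →ₐ[R] MvPolynomial (Fin n) R' := aeval fun i => X i
  have hg : (φ'.restrictScalars R).comp g = φ := algHom_ext fun i => by simp [g, φ']
  have hφ' : Surjective φ' := fun s => by
    obtain ⟨p, rfl⟩ := hφ s
    exact ⟨g p, congr($hg p)⟩
  have hgft : g.toRingHom.FiniteType := by
    have : g.FiniteType := AlgHom.FiniteType.of_comp_finiteType (f := Algebra.ofId R _) (g := g) (by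
      show (g.toRingHom.comp (algebraMap R (MvPolynomial (Fin n) R))).FiniteType
      rw [show g.toRingHom.comp (algebraMap R (MvPolynomial (Fin n) R)) = algebraMap R (MvPolynomial (Fin n) R') from
        RingHom.ext fun r => g.commutes r]
      exact RingHom.finiteType_algebraMap.2
        (Algebra.FiniteType.trans (S := R') inferInstance inferInstance))
    exact this
  refine ⟨n, φ', hφ', FPVia.ascend g.toRingHom hgft φ'.toRingHom ?_⟩
  rwa [show φ'.toRingHom.comp g.toRingHom = φ.toRingHom from RingHom.ext fun x => congr($hg x)]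

theorem RelFP.trans [Algebra.FinitePresentation R R'] (h : FlatCA.RelFinitePresentation R' S M) :
    FlatCA.RelFinitePresentation R S M := by
  obtain ⟨n, φ, hφ, h⟩ := h
  have : Algebra.FinitePresentation R (MvPolynomial (Fin n) R') :=
    Algebra.FinitePresentation.trans R R' _
  exact (relFP_iff_fpVia (φ.restrictScalars R) hφ).2 h

end Tower

section Exact

variable {R S : Type u} [CommRing R] [CommRing S] [Algebra R S] {M₁ M₂ M₃ : Type u}
  [AddCommGroup M₁] [Module S M₁] [AddCommGroup M₂] [Module S M₂] [AddCommGroup M₃] [Module S M₃]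
  (l : M₁ →ₗ[S] M₂) (r : M₂ →ₗ[S] M₃)

theorem RelFP.of_extension (hl : Injective l) (hex : Function.Exact l r) (hr : Surjective r)
    (h₁ : FlatCA.RelFinitePresentation R S M₁) (h₃ : FlatCA.RelFinitePresentation R S M₃) :
    FlatCA.RelFinitePresentation R S M₂ := by
  obtain ⟨n, φ, hφ, h₃⟩ := h₃
  have h₁ : FPVia φ.toRingHom M₁ := (relFP_iff_fpVia φ hφ).1 h₁
  refine ⟨n, φ, hφ, ?_⟩
  let _ := φ.toRingHom.toAlgebra
  let _ : Module (MvPolynomial (Fin n) R) M₁ := Module.compHom M₁ φ.toRingHom
  let _ : Module (MvPolynomial (Fin n) R) M₂ := Module.compHom M₂ φ.toRingHom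
  let _ : Module (MvPolynomial (Fin n) R) M₃ := Module.compHom M₃ φ.toRingHom
  have : IsScalarTower (MvPolynomial (Fin n) R) S M₁ := .of_algebraMap_smul fun _ _ => rfl
  have : IsScalarTower (MvPolynomial (Fin n) R) S M₂ := .of_algebraMap_smul fun _ _ => rfl
  have : IsScalarTower (MvPolynomial (Fin n) R) S M₃ := .of_algebraMap_smul fun _ _ => rfl
  have : Module.FinitePresentation (MvPolynomial (Fin n) R) M₁ := h₁
  have : Module.FinitePresentation (MvPolynomial (Fin n) R) M₃ := h₃
  let r' := r.restrictScalars (MvPolynomial (Fin n) R)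
  let l' := l.restrictScalars (MvPolynomial (Fin n) R)
  have : Module.FinitePresentation (MvPolynomial (Fin n) R) (LinearMap.ker r') :=
    Module.FinitePresentation.of_equiv ((LinearEquiv.ofInjective l' hl).trans
      (LinearEquiv.ofEq _ _ (LinearMap.exact_iff.1 (show Function.Exact l' r' from hex)).symm))
  exact Module.finitePresentation_of_ker r' hr

theorem RelFP.of_quotient (hex : Function.Exact l r) (hr : Surjective r) [Module.Finite S M₁]
    (h₂ : FlatCA.RelFinitePresentation R S M₂) : FlatCA.RelFinitePresentation R S M₃ := by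
  obtain ⟨n, φ, hφ, h₂⟩ := h₂
  refine ⟨n, φ, hφ, ?_⟩
  let _ := φ.toRingHom.toAlgebra
  let _ : Module (MvPolynomial (Fin n) R) M₁ := Module.compHom M₁ φ.toRingHom
  let _ : Module (MvPolynomial (Fin n) R) M₂ := Module.compHom M₂ φ.toRingHom
  let _ : Module (MvPolynomial (Fin n) R) M₃ := Module.compHom M₃ φ.toRingHom
  have : IsScalarTower (MvPolynomial (Fin n) R) S M₁ := .of_algebraMap_smul fun _ _ => rfl
  have : IsScalarTower (MvPolynomial (Fin n) R) S M₂ := .of_algebraMap_smul fun _ _ => rfl
  have : IsScalarTower (MvPolynomial (Fin n) R) S M₃ := .of_algebraMap_smul fun _ _ => rfl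
  have : Module.FinitePresentation (MvPolynomial (Fin n) R) M₂ := h₂
  have : Module.Finite (MvPolynomial (Fin n) R) (MvPolynomial (Fin n) R) := Module.Finite.self _
  have : Module.Finite (MvPolynomial (Fin n) R) S := .of_surjective (Algebra.linearMap _ S) hφ
  have : Module.Finite (MvPolynomial (Fin n) R) M₁ := .trans S M₁
  let r' := r.restrictScalars (MvPolynomial (Fin n) R)
  let l' := l.restrictScalars (MvPolynomial (Fin n) R)
  refine Module.finitePresentation_of_surjective r' hr ?_
  rw [LinearMap.exact_iff.1 (show Function.Exact l' r' from hex)]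
  exact Module.Finite.iff_fg.1 inferInstance

theorem RelFP.of_prod (h : FlatCA.RelFinitePresentation R S (M₁ × M₂)) :
    FlatCA.RelFinitePresentation R S M₁ ∧ FlatCA.RelFinitePresentation R S M₂ := by
  have := RelFP.moduleFinite h
  have : Module.Finite S M₁ := .of_surjective (LinearMap.fst S M₁ M₂) Prod.fst_surjective
  have : Module.Finite S M₂ := .of_surjective (LinearMap.snd S M₁ M₂) Prod.snd_surjective
  exact ⟨RelFP.of_quotient (LinearMap.inr S M₁ M₂) (LinearMap.fst S M₁ M₂)
      Function.Exact.inr_fst Prod.fst_surjective h,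
    RelFP.of_quotient (LinearMap.inl S M₁ M₂) (LinearMap.snd S M₁ M₂)
      Function.Exact.inl_snd Prod.snd_surjective h⟩

end Exact

section Finite

variable {R A B : Type u} [CommRing R] [CommRing A] [CommRing B] [Algebra R A] [Algebra A B]
  [Algebra R B] [IsScalarTower R A B] [Module.Finite A B] {M : Type u} [AddCommGroup M] [Module B M]
  [Module A M] [IsScalarTower A B M]

/-- Relative finite presentation along a finite map of finite type algebras. -/
theorem relFP_iff_of_finite [Algebra.FiniteType R A] :
    FlatCA.RelFinitePresentation R A M ↔ FlatCA.RelFinitePresentation R B M := by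
  obtain ⟨n, φ, hφ⟩ := Algebra.FiniteType.iff_quotient_mvPolynomial''.1
    (inferInstance : Algebra.FiniteType R A)
  let P := MvPolynomial (Fin n) R
  let _ := φ.toRingHom.toAlgebra
  let _ : Algebra P B := ((algebraMap A B).comp φ.toRingHom).toAlgebra
  have : IsScalarTower P A B := .of_algebraMap_eq fun _ => rfl
  have : IsScalarTower R P B := .of_algebraMap_eq fun r => by
    show algebraMap R B r = algebraMap A B (φ (algebraMap R P r))
    rw [φ.commutes, ← IsScalarTower.algebraMap_apply]
  have : Module.Finite P P := Module.Finite.self _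
  have : Module.Finite P A := .of_surjective (Algebra.linearMap P A) hφ
  have : Module.Finite P B := .trans A B
  obtain ⟨Q, _, _, _, _, _, f, hf⟩ := Module.Finite.exists_free_surjective P B
  let _ : Algebra R Q := Algebra.compHom Q (algebraMap R P)
  have : IsScalarTower R P Q := .of_algebraMap_eq fun _ => rfl
  have : Algebra.FinitePresentation R Q := Algebra.FinitePresentation.trans R P Q
  have hQ : Module.FinitePresentation P Q := Module.finitePresentation_of_projective P Q
  rw [relFP_iff_fpVia φ hφ, relFP_iff_fpVia (f.restrictScalars R) hf]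
  have e : f.toRingHom.comp (algebraMap P Q) = (algebraMap A B).comp φ.toRingHom :=
    RingHom.ext fun p => f.commutes p
  have hA : FPVia φ.toRingHom M ↔ FPVia ((algebraMap A B).comp φ.toRingHom) M := by
    have : Module.compHom M φ.toRingHom = Module.compHom M ((algebraMap A B).comp φ.toRingHom) :=
      Module.ext' _ _ fun p m => (algebraMap_smul B (φ p) m).symm
    unfold FPVia
    rw [this]
  rw [hA, ← e]
  refine ⟨fun h => FPVia.ascend (algebraMap P Q) (RingHom.finiteType_algebraMap.2 inferInstance) _ h,
    fun h => FPVia.descend (algebraMap P Q) ?_ _ h⟩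
  convert! hQ
  exact Algebra.algebra_ext _ _ fun _ => rfl

end Finite

section BaseChange

variable {R A : Type u} [CommRing R] [CommRing A] [Algebra R A] {M : Type u} [AddCommGroup M]
  [Module A M]

theorem fpVia_baseChange {P Q A' N : Type u} [CommRing P] [CommRing Q] [CommRing A']
    [Algebra P A] [Algebra P Q] [Algebra A A'] [Algebra Q A'] [Algebra P A'] [IsScalarTower P A A']
    [IsScalarTower P Q A'] [Algebra.IsPushout P Q A A'] [AddCommGroup N] [Module A' N]
    [Module A N] [IsScalarTower A A' N] (f : M →ₗ[A] N) (hf : IsBaseChange A' f)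
    (h : FPVia (algebraMap P A) M) : FPVia (algebraMap Q A') N := by
  let _ : Module P M := Module.compHom M (algebraMap P A)
  have : IsScalarTower P A M := .of_algebraMap_smul fun _ _ => rfl
  let _ : Module Q N := Module.compHom N (algebraMap Q A')
  have : IsScalarTower Q A' N := .of_algebraMap_smul fun _ _ => rfl
  have : Module.FinitePresentation P M := h
  exact Module.FinitePresentation.of_equiv
    ((Algebra.IsPushout.cancelBaseChange P Q A A' M).symm.trans (hf.equiv.restrictScalars Q))

theorem surjective_of_isPushout {P Q A' : Type u} [CommRing P] [CommRing Q] [CommRing A']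
    [Algebra P A] [Algebra P Q] [Algebra A A'] [Algebra Q A'] [Algebra P A'] [IsScalarTower P A A']
    [IsScalarTower P Q A'] [Algebra.IsPushout P Q A A'] (hφ : Surjective (algebraMap P A)) :
    Surjective (algebraMap Q A') := fun a => by
  induction a using (Algebra.IsPushout.out (R := P) (S := Q) (R' := A) (S' := A')).inductionOn with
  | zero => exact ⟨0, map_zero _⟩
  | tmul x =>
    obtain ⟨p, rfl⟩ := hφ x
    refine ⟨algebraMap P Q p, ?_⟩
    simp [← IsScalarTower.algebraMap_apply]
  | smul q x hx =>
    obtain ⟨y, rfl⟩ := hx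
    exact ⟨q * y, by rw [map_mul, Algebra.smul_def]⟩
  | add x y hx hy =>
    obtain ⟨a, rfl⟩ := hx
    obtain ⟨b, rfl⟩ := hy
    exact ⟨a + b, map_add _ a b⟩

theorem relFP_of_isPushout {R' P Q A' N : Type u} [CommRing R'] [CommRing P] [CommRing Q]
    [CommRing A'] [Algebra P A] [Algebra P Q] [Algebra A A'] [Algebra Q A'] [Algebra P A']
    [IsScalarTower P A A'] [IsScalarTower P Q A'] [Algebra.IsPushout P Q A A'] [Algebra R' Q]
    [Algebra R' A'] [IsScalarTower R' Q A'] [Algebra.FinitePresentation R' Q]
    [AddCommGroup N] [Module A' N] [Module A N] [IsScalarTower A A' N] (f : M →ₗ[A] N)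
    (hf : IsBaseChange A' f) (hφ : Surjective (algebraMap P A))
    (h : FPVia (algebraMap P A) M) : FlatCA.RelFinitePresentation R' A' N :=
  (relFP_iff_fpVia (IsScalarTower.toAlgHom R' Q A')
    (surjective_of_isPushout (A := A) (P := P) (Q := Q) (A' := A') hφ)).2
    (fpVia_baseChange (P := P) (Q := Q) f hf h)

attribute [local instance] Algebra.TensorProduct.rightAlgebra in
theorem isPushout_of_algEquiv {P C A' : Type u} [CommRing P] [CommRing C] [CommRing A'] [Algebra P A]
    [Algebra P C] [Algebra P A'] [Algebra A A'] [IsScalarTower P A A'] [Algebra C A']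
    [IsScalarTower P C A'] (e : A ⊗[P] C ≃ₐ[A] A') (he : ∀ c, e (1 ⊗ₜ c) = algebraMap C A' c) :
    Algebra.IsPushout P C A A' :=
  (Algebra.IsPushout.of_equiv (S' := A ⊗[P] C) e (RingHom.ext fun x => he x)).symm

theorem isPushout_of_comp {R' P Q A' : Type u} [CommRing R'] [CommRing P] [CommRing Q] [CommRing A']
    [Algebra R R'] [Algebra R P] [Algebra R' Q] [Algebra P Q] [Algebra R Q] [IsScalarTower R R' Q]
    [IsScalarTower R P Q] [Algebra.IsPushout R P R' Q]
    [Algebra P A] [Algebra A A'] [Algebra Q A'] [Algebra P A'] [Algebra R' A'] [Algebra R A']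
    [IsScalarTower R A A'] [IsScalarTower R R' A'] [IsScalarTower R P A] [IsScalarTower P A A']
    [IsScalarTower P Q A'] [IsScalarTower R' Q A'] [IsScalarTower R Q A']
    [Algebra.IsPushout R A R' A'] : Algebra.IsPushout P Q A A' :=
  ((Algebra.IsPushout.comp_iff R P R' Q (T := A) (T' := A')).1 inferInstance).symm

theorem relFP_baseChange_aux {R' A' P Q N : Type u} [CommRing R'] [CommRing A'] [CommRing P]
    [CommRing Q] [Algebra R R'] [Algebra A A'] [Algebra R' A'] [Algebra R A'] [IsScalarTower R A A']
    [IsScalarTower R R' A'] [Algebra.IsPushout R A R' A'] [Algebra R P] [Algebra R' Q] [Algebra P Q]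
    [Algebra R Q] [IsScalarTower R R' Q] [IsScalarTower R P Q] [Algebra.IsPushout R P R' Q]
    [Algebra.FinitePresentation R' Q] [AddCommGroup N] [Module A' N] [Module A N]
    [IsScalarTower A A' N] (f : M →ₗ[A] N) (hf : IsBaseChange A' f) (φ : P →ₐ[R] A) (hφ : Surjective φ)
    (ψ : Q →ₐ[R'] A') (hPQ : ∀ p, ψ (algebraMap P Q p) = algebraMap A A' (φ p))
    (h : FPVia φ.toRingHom M) : FlatCA.RelFinitePresentation R' A' N := by
  let _ := φ.toRingHom.toAlgebra
  let _ := ψ.toRingHom.toAlgebra
  let _ : Algebra P A' := ((algebraMap A A').comp φ.toRingHom).toAlgebra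
  have : IsScalarTower P A A' := .of_algebraMap_eq fun _ => rfl
  have : IsScalarTower P Q A' := .of_algebraMap_eq fun p => (hPQ p).symm
  have : IsScalarTower R P A := .of_algebraMap_eq fun r => (φ.commutes r).symm
  have : IsScalarTower R' Q A' := .of_algebraMap_eq fun r => (ψ.commutes r).symm
  have : IsScalarTower R Q A' := .to₁₃₄ R R' Q A'
  have := isPushout_of_comp (R := R) (A := A) (R' := R') (P := P) (Q := Q) (A' := A')
  exact relFP_of_isPushout (R' := R') (P := P) (Q := Q) f hf hφ h

attribute [local instance] MvPolynomial.algebraMvPolynomial in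
theorem RelFP.baseChange {R' A' N : Type u} [CommRing R'] [CommRing A'] [Algebra R R']
    [Algebra A A'] [Algebra R' A'] [Algebra R A'] [IsScalarTower R A A'] [IsScalarTower R R' A']
    [Algebra.IsPushout R A R' A'] [AddCommGroup N] [Module A' N] [Module A N]
    [IsScalarTower A A' N] (f : M →ₗ[A] N) (hf : IsBaseChange A' f)
    (h : FlatCA.RelFinitePresentation R A M) : FlatCA.RelFinitePresentation R' A' N := by
  obtain ⟨n, φ, hφ, h⟩ := h
  let ψ : MvPolynomial (Fin n) R' →ₐ[R'] A' := aeval fun i => algebraMap A A' (φ (X i))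
  refine relFP_baseChange_aux (R := R) (R' := R') (P := MvPolynomial (Fin n) R)
    (Q := MvPolynomial (Fin n) R') f hf φ hφ ψ (fun p => ?_) h
  induction p using MvPolynomial.induction_on with
  | C r =>
    rw [MvPolynomial.algebraMap_def, MvPolynomial.map_C,
      show φ (C r) = algebraMap R A r from φ.commutes r,
      show ψ (C (algebraMap R R' r)) = algebraMap R' A' (algebraMap R R' r) from ψ.commutes _,
      ← IsScalarTower.algebraMap_apply, ← IsScalarTower.algebraMap_apply]
  | add a b ha hb => simp only [map_add, ha, hb]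
  | mul_X a i ha =>
    rw [map_mul, map_mul, ha, map_mul, map_mul]
    congr 1
    rw [MvPolynomial.algebraMap_def, MvPolynomial.map_X]
    simp [ψ]

theorem relFP_model_aux {A' P C N : Type u} [CommRing A'] [CommRing P] [CommRing C] [Algebra A A']
    [Algebra R A'] [IsScalarTower R A A'] [Algebra R P] [Algebra P A] [IsScalarTower R P A]
    [Algebra P A'] [IsScalarTower P A A'] [Algebra P C] [Algebra R C] [IsScalarTower R P C]
    [Algebra.FinitePresentation R C] (e : A ⊗[P] C ≃ₐ[A] A') (hφ : Surjective (algebraMap P A))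
    [AddCommGroup N] [Module A' N]
    [Module A N] [IsScalarTower A A' N] (f : M →ₗ[A] N) (hf : IsBaseChange A' f)
    (h : FPVia (algebraMap P A) M) : FlatCA.RelFinitePresentation R A' N := by
  let ψ : C →ₐ[P] A' := (e.toAlgHom.restrictScalars P).comp Algebra.TensorProduct.includeRight
  let _ := ψ.toRingHom.toAlgebra
  have : IsScalarTower P C A' := .of_algebraMap_eq fun p => (ψ.commutes p).symm
  have := isPushout_of_algEquiv (A := A) e fun c => rfl
  have : IsScalarTower R P A' := .to₁₂₄ R P A A'
  have : IsScalarTower R C A' := .of_algebraMap_eq fun r => by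
    rw [IsScalarTower.algebraMap_apply R P C, ← IsScalarTower.algebraMap_apply P C A',
      ← IsScalarTower.algebraMap_apply R P A']
  exact relFP_of_isPushout (R' := R) (P := P) (Q := C) f hf hφ h

theorem RelFP.baseChange_algebra {A' N : Type u} [CommRing A'] [Algebra A A'] [Algebra R A']
    [IsScalarTower R A A'] [Algebra.FinitePresentation A A'] [AddCommGroup N] [Module A' N]
    [Module A N] [IsScalarTower A A' N] (f : M →ₗ[A] N) (hf : IsBaseChange A' f)
    (h : FlatCA.RelFinitePresentation R A M) : FlatCA.RelFinitePresentation R A' N := by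
  obtain ⟨n, φ, hφ, h⟩ := h
  let _ := φ.toRingHom.toAlgebra
  let _ : Algebra (MvPolynomial (Fin n) R) A' := ((algebraMap A A').comp φ.toRingHom).toAlgebra
  have : IsScalarTower (MvPolynomial (Fin n) R) A A' := .of_algebraMap_eq fun _ => rfl
  have : IsScalarTower R (MvPolynomial (Fin n) R) A := .of_algebraMap_eq fun r => (φ.commutes r).symm
  let Pr := Algebra.Presentation.ofFinitePresentation A A'
  have : Pr.HasCoeffs (MvPolynomial (Fin n) R) := ⟨fun a _ => hφ a⟩
  have : Algebra.FinitePresentation R (Pr.ModelOfHasCoeffs (MvPolynomial (Fin n) R)) :=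
    Algebra.FinitePresentation.trans R (MvPolynomial (Fin n) R) _
  exact relFP_model_aux (Pr.tensorModelOfHasCoeffsEquiv (MvPolynomial (Fin n) R)) hφ f hf h

end BaseChange

end Groth.Agent.Flatn12
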